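import Groth.Agent.Lib.GaetaPts20.Eval
import Groth.Agent.Lib.CMReg.Linear
import Groth.Agent.Lib.CMReg.Sequences
import Groth.Agent.Lib.K0Pn22.Basic
import Groth.Agent.Lib.RegCorr27.Sections
import Groth.Agent.Lib.QCoh.AvoidSub
import Groth.Agent.Lib.TensorPerf20.FlatKernel
import Groth.Agent.Lib.HomSh.Coherent
import Groth.Agent.Lib.RegPow10.Main
import Mathlib.AlgebraicGeometry.AlgClosed.Basic

/-!
# Regularity of ideals of finite subschemes of projective space
-/

set_option autoImplicit false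
set_option backward.isDefEq.respectTransparency false
set_option maxHeartbeats 600000
set_option linter.style.haveILetI false

universe u

open CategoryTheory CategoryTheory.Limits AlgebraicGeometry TopologicalSpace Opposite
open scoped TensorProduct

noncomputable section

namespace GrothLib.PtsReg5

open GenHom20 (mTop)
open QCoh (stalkLin)
open GaetaPts20 (g1 cst ptOf evalPt resNat)
open InvExt (mres)

section general

variable {X : Scheme.{u}}

local notation "𝔪[" x "]" => IsLocalRing.maximalIdeal (X.presheaf.stalk x)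

theorem germ_mres (M : X.Modules) {V W : X.Opens} (h : W ≤ V) (y : X) (hy : y ∈ W) (s : Γ(M, V)) :
    M.presheaf.germ W y hy (mres M h s) = M.presheaf.germ V y (h hy) s :=
  TopCat.Presheaf.germ_res_apply M.presheaf (homOfLE h) y hy s

theorem mem_span_germs {M : X.Modules} (hM : CMReg.Spanned M) (x : X) (v : M.presheaf.stalk x) :
    v ∈ Submodule.span (X.presheaf.stalk x)
      (Set.range fun s : Γ(M, ⊤) => M.presheaf.germ ⊤ x trivial s) := by
  obtain ⟨U, hxU, m, rfl⟩ := TopCat.Presheaf.exists_germ_eq M.presheaf v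
  obtain ⟨W, hW, hxW, hs⟩ := hM U m x hxU
  rw [← germ_mres M hW x hxW m]
  refine Submodule.span_induction (p := fun z _ => M.presheaf.germ W x hxW z ∈ Submodule.span
    (X.presheaf.stalk x) (Set.range fun s : Γ(M, ⊤) => M.presheaf.germ ⊤ x trivial s))
    ?_ ?_ ?_ ?_ hs
  · rintro _ ⟨s, rfl⟩
    rw [germ_mres]
    exact Submodule.subset_span ⟨s, rfl⟩
  · rw [map_zero]; exact zero_mem _
  · intro a b _ _ ha hb
    rw [map_add]; exact add_mem ha hb
  · intro r z _ hz
    rw [WeakAss.germ_smul]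
    exact Submodule.smul_mem _ _ hz

theorem stalk_quot_smul_eq_zero (I : X.IdealSheafData) (p : I.subscheme)
    (r : X.presheaf.stalk (I.subschemeι p)) (hr : (I.subschemeι.stalkMap p).hom r = 0) :
    stalkLin (ClSub.toSubscheme I) (I.subschemeι p) (r • g1 (I.subschemeι p)) = 0 := by
  obtain ⟨U, hU, a, rfl⟩ := TopCat.Presheaf.exists_germ_eq X.presheaf r
  change ((X.presheaf.germ U _ hU ≫ I.subschemeι.stalkMap p)).hom a = 0 at hr
  rw [Scheme.Hom.germ_stalkMap] at hr
  obtain ⟨W, hpW, i, j, e⟩ := TopCat.Presheaf.germ_eq I.subscheme.presheaf p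
    (show p ∈ I.subschemeι ⁻¹ᵁ U from hU) (show p ∈ I.subschemeι ⁻¹ᵁ U from hU) _ 0 (hr.trans (map_zero _).symm)
  obtain ⟨W', hW'o, hW'⟩ := I.subschemeι.isClosedEmbedding.isInducing.isOpen_iff.1 W.isOpen
  let V : X.Opens := U ⊓ ⟨W', hW'o⟩
  have hxV : I.subschemeι p ∈ V := ⟨hU, (hW'.ge hpW : _)⟩
  have hVW : I.subschemeι ⁻¹ᵁ V ≤ W := fun q hq => hW'.le hq.2
  rw [← TopCat.Presheaf.germ_res_apply X.presheaf (homOfLE (inf_le_left : V ≤ U)) _ hxV a,
    GaetaPts20.g1_eq hxV, ← WeakAss.germ_smul, QCoh.stalkLin_germ]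
  have h0 : (ClSub.toSubscheme I).app V
      ((show Γ(X, V) from X.presheaf.map (homOfLE (inf_le_left : V ≤ U)).op a) • FinCov.one X V) = 0 := by
    show (I.subschemeι.app V).hom ((show Γ(X, V) from X.presheaf.map _ a) * 1) = 0
    rw [mul_one]
    change (X.presheaf.map (homOfLE (inf_le_left : V ≤ U)).op ≫ I.subschemeι.app V).hom a = 0
    rw [Scheme.Hom.naturality]
    change (I.subscheme.presheaf.map (i.op ≫ (homOfLE hVW).op)) (I.subschemeι.app U a) = 0
    rw [Functor.map_comp, CommRingCat.comp_apply]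
    erw [e]
    rw [map_zero, map_zero]
  rw [h0, map_zero]

theorem pow_smul_stalk_quot_eq_zero (I : X.IdealSheafData) (p : I.subscheme) (e : ℕ)
    (he : IsLocalRing.maximalIdeal (I.subscheme.presheaf.stalk p) ^ e = ⊥)
    (v : (Coh.structureModule X).presheaf.stalk (I.subschemeι p))
    (hv : v ∈ 𝔪[I.subschemeι p] ^ e • (⊤ : Submodule (X.presheaf.stalk (I.subschemeι p)) _)) :
    stalkLin (ClSub.toSubscheme I) (I.subschemeι p) v = 0 := by
  refine Submodule.smul_induction_on (p := fun v => stalkLin (ClSub.toSubscheme I) _ v = 0) hv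
    (fun r hr w _ => ?_) (fun a b ha hb => by rw [map_add, ha, hb, add_zero])
  obtain ⟨c, rfl⟩ := GaetaPts20.exists_eq_smul_g1 _ w
  rw [smul_smul]
  refine stalk_quot_smul_eq_zero I p _ ?_
  rw [← Submodule.mem_bot (I.subscheme.presheaf.stalk p), ← he]
  have hm : (𝔪[I.subschemeι p] ^ e).map (I.subschemeι.stalkMap p).hom ≤
      IsLocalRing.maximalIdeal (I.subscheme.presheaf.stalk p) ^ e := by
    rw [Ideal.map_pow]
    exact Ideal.pow_right_mono (Ideal.map_le_iff_le_comap.2 fun z hz =>
      map_nonunit _ z hz) e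
  exact hm (Ideal.mem_map_of_mem _ (Ideal.mul_mem_right c _ hr))

variable {z : Fin 1 → X} (hz : ∀ t, IsClosed ({z t} : Set X))

/-- The kernel of the restriction to the points at a point is `𝔪` times the stalk. -/
theorem mem_mTop_of_res_eq_zero {M : X.Modules} (hM : Coh.IsCoh M) (t : Fin 1)
    {v : M.presheaf.stalk (z t)} (h : stalkLin ((resNat z hz).app M) (z t) v = 0) :
    v ∈ mTop (X.presheaf.stalk (z t)) _ := by
  let R := X.presheaf.stalk (z t)
  let m := IsLocalRing.maximalIdeal R
  haveI := QCoh.stalk_finite M hM (z t)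
  haveI := Euler.epi_toSubscheme (GaetaPts20.ptsIdeal z hz)
  let q : (R ⧸ m) →ₗ[R] (ClSub.quotMod (GaetaPts20.ptsIdeal z hz)).presheaf.stalk (z t) :=
    Submodule.liftQ m (LinearMap.toSpanSingleton R _
      (stalkLin (ClSub.toSubscheme (GaetaPts20.ptsIdeal z hz)) (z t) (g1 (z t))))
      fun r hr => LinearMap.mem_ker.2 (GaetaPts20.toSubscheme_smul_eq_zero z hz t hr)
  have hq : Function.Bijective q := by
    refine ⟨?_, fun a => ?_⟩
    · rw [← LinearMap.ker_eq_bot]
      refine Submodule.ker_liftQ_eq_bot _ _ _ fun r hr => ?_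
      by_contra hu
      exact GaetaPts20.toSubscheme_g1_ne_zero z hz t
        ((IsLocalRing.notMem_maximalIdeal.1 hu).smul_eq_zero.1 hr)
    · obtain ⟨a', rfl⟩ := QCoh.stalkLin_surjective (ClSub.toSubscheme (GaetaPts20.ptsIdeal z hz)) (z t) a
      obtain ⟨c, rfl⟩ := GaetaPts20.exists_eq_smul_g1 (z t) a'
      refine ⟨Submodule.Quotient.mk c, ?_⟩
      rw [map_smul]
      rfl
  let Ψ := (Ref1.tensorStalk (ClSub.quotMod (GaetaPts20.ptsIdeal z hz)) M (z t)) ≪≫ₗ
    (TensorProduct.congr (LinearEquiv.ofBijective q hq).symm (LinearEquiv.refl R _)) ≪≫ₗ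
    TensorProduct.quotTensorEquivQuotSMul (M.presheaf.stalk (z t)) m
  let f : M.presheaf.stalk (z t) →ₗ[R] M.presheaf.stalk (z t) ⧸ (m • ⊤ : Submodule R _) :=
    Ψ.toLinearMap ∘ₗ stalkLin ((resNat z hz).app M) (z t)
  have hle : mTop R _ ≤ LinearMap.ker f := fun w hw => by
    show Ψ (stalkLin ((resNat z hz).app M) (z t) w) = 0
    rw [GaetaPts20.res_eq_zero_of_mem z hz M t hw]
    exact map_zero _
  let g := Submodule.liftQ (mTop R _) f hle
  haveI := GaetaPts20.epi_res z hz M
  have hg : Function.Surjective g := fun a => by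
    obtain ⟨w, hw⟩ := QCoh.stalkLin_surjective ((resNat z hz).app M) (z t) (Ψ.symm a)
    refine ⟨Submodule.Quotient.mk w, ?_⟩
    show Ψ (stalkLin ((resNat z hz).app M) (z t) w) = a
    rw [hw]
    exact Ψ.apply_symm_apply a
  have hinj := OrzechProperty.injective_of_surjective_endomorphism g hg
  refine (Submodule.Quotient.mk_eq_zero (mTop R _)).1 (hinj ?_)
  rw [map_zero]
  show Ψ (stalkLin ((resNat z hz).app M) (z t) v) = 0
  rw [h]
  exact map_zero _

/-- The restricted module is killed by `𝔪` at the point. -/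
theorem smul_res_eq_zero (M : X.Modules) (t : Fin 1) {r : X.presheaf.stalk (z t)}
    (hr : r ∈ 𝔪[z t])
    (w : (((DCoh.tensorBi (X := X)).obj (ClSub.quotMod (GaetaPts20.ptsIdeal z hz))).obj M).presheaf.stalk (z t)) :
    r • w = 0 := by
  haveI := GaetaPts20.epi_res z hz M
  obtain ⟨v, rfl⟩ := QCoh.stalkLin_surjective ((resNat z hz).app M) (z t) w
  rw [← map_smul]
  exact GaetaPts20.res_eq_zero_of_mem z hz M t (Submodule.smul_mem_smul hr trivial)

theorem smul_tensor_eq_zero (A B : X.Modules) (x : X) {r : X.presheaf.stalk x}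
    (hA : ∀ a : A.presheaf.stalk x, r • a = 0) (w : (CohB1.tensorMod A B).presheaf.stalk x) : r • w = 0 := by
  refine (Ref1.tensorStalk A B x).injective ?_
  rw [map_smul, map_zero]
  generalize Ref1.tensorStalk A B x w = q
  induction q using TensorProduct.induction_on with
  | zero => exact smul_zero _
  | tmul a b => rw [TensorProduct.smul_tmul', hA, TensorProduct.zero_tmul]
  | add a b ha hb => rw [smul_add, ha, hb, add_zero]

theorem exists_sub_cst_mem {k : Type u} [Field k] [IsAlgClosed k] [X.Over (Spec (CommRingCat.of k))]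
    [LocallyOfFiniteType (X ↘ Spec (CommRingCat.of k))] {x : X} (hx : IsClosed ({x} : Set X)) :
    ∀ r : X.presheaf.stalk x, ∃ c : k, r - cst x c ∈ 𝔪[x] := by
  let y := pointOfClosedPoint (X ↘ Spec (CommRingCat.of k)) x hx
  have e : ptOf y = x := pointOfClosedPoint_apply _ x hx _
  rw [← e]
  exact fun r => ⟨evalPt y r, GaetaPts20.sub_cst_mem y (pointOfClosedPoint_comp _ x hx) r⟩

/-- A map onto a module concentrated at a rational point is surjective on sections when the source is
spanned by global sections. -/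
theorem surjective_app_top_of_spanned {M Q : X.Modules} (g : M ⟶ Q) [Epi g] (hM : CMReg.Spanned M)
    {x : X} (hx : IsClosed ({x} : Set X)) (hQ : CohB1.support Q ⊆ {x})
    (hres : ∀ r : X.presheaf.stalk x, ∃ c : Γ(X, ⊤), r - X.presheaf.germ ⊤ x trivial c ∈ 𝔪[x])
    (hkill : ∀ r ∈ 𝔪[x], ∀ w : Q.presheaf.stalk x, r • w = 0) :
    Function.Surjective (g.app ⊤) := by
  intro s
  have hfin : (CohB1.support Q).Finite := (Set.finite_singleton x).subset hQ
  have hcl : ∀ y ∈ CohB1.support Q, IsClosed ({y} : Set X) := fun y hy => by rw [hQ hy]; exact hx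
  have key : ∀ v : M.presheaf.stalk x, ∃ s' : Γ(M, ⊤),
      Q.presheaf.germ ⊤ x trivial (g.app ⊤ s') = stalkLin g x v := by
    intro v
    refine Submodule.span_induction (p := fun v _ => ∃ s' : Γ(M, ⊤),
      Q.presheaf.germ ⊤ x trivial (g.app ⊤ s') = stalkLin g x v) ?_ ?_ ?_ ?_ (mem_span_germs hM x v)
    · rintro _ ⟨s', rfl⟩
      exact ⟨s', (QCoh.stalkLin_germ (U := ⊤) g (x := x) trivial s').symm⟩
    · exact ⟨0, by rw [map_zero, map_zero, map_zero]⟩
    · rintro a b _ _ ⟨s₁, h₁⟩ ⟨s₂, h₂⟩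
      exact ⟨s₁ + s₂, by rw [map_add, map_add, map_add, h₁, h₂]⟩
    · rintro r a _ ⟨s₁, h₁⟩
      obtain ⟨c, hc⟩ := hres r
      refine ⟨c • s₁, ?_⟩
      rw [← QCoh.stalkLin_germ (U := ⊤) g (x := x) trivial, WeakAss.germ_smul, map_smul, QCoh.stalkLin_germ, h₁,
        map_smul]
      have := hkill _ hc (stalkLin g x a)
      rw [sub_smul, sub_eq_zero] at this
      rw [this]
  obtain ⟨v, hv⟩ := QCoh.stalkLin_surjective g x (Q.presheaf.germ ⊤ x trivial s)
  obtain ⟨s', hs'⟩ := key v
  refine ⟨s', (Euler.bijective_germs Q hfin hcl).1 (funext fun y => ?_)⟩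
  obtain ⟨y, hy⟩ := y
  obtain rfl : y = x := hQ hy
  exact hs'.trans hv

end general

section projective

variable {n : ℕ} {k : Type u} [Field k]

local notation "P" => CohB1.ProjSpace n k

open CMReg (Ft)

theorem regular_structure : Curv2.IsMRegular k n (Coh.structureModule P) 0 := by
  have h := K0Pn22.twist_regular (n := n) (k := k) 0 (m := 0) le_rfl
  obtain ⟨e⟩ := CMReg.nonempty_twist_zero (n := n) (k := k)
  intro i hi hin
  refine CMReg.subsingleton_of_iso ?_ (h i hi hin)
  exact Ample.LineData.tensorModMapIso (eqToIso (congrArg _ neg_zero) ≪≫ e) (Iso.refl _)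

variable [IsAlgClosed k]

/-- One step: cutting down by a closed point raises the regularity by one. -/
theorem exists_sub {F : (P).Modules} (hF : Coh.IsCoh F) (m : ℤ) (hreg : Curv2.IsMRegular k n F m)
    {x : P} (hx : IsClosed ({x} : Set P)) :
    ∃ (F' : (P).Modules) (κ : F' ⟶ F), Mono κ ∧ Coh.IsCoh F' ∧ Curv2.IsMRegular k n F' (m + 1) ∧
      (∀ v : F'.presheaf.stalk x, stalkLin κ x v ∈ mTop ((P).presheaf.stalk x) _) ∧
      ∀ y, y ≠ x → Function.Surjective (stalkLin κ y) := by
  let z : Fin 1 → P := fun _ => x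
  have hz : ∀ t, IsClosed ({z t} : Set P) := fun _ => hx
  let Q := ((DCoh.tensorBi (X := P)).obj (ClSub.quotMod (GaetaPts20.ptsIdeal z hz))).obj F
  let g : F ⟶ Q := (resNat z hz).app F
  haveI : Epi g := GaetaPts20.epi_res z hz F
  have hsupp : CohB1.support Q ⊆ {x} := fun y hy => by
    obtain ⟨t, rfl⟩ := GaetaPts20.support_tensor_Q z hz F hy
    rfl
  have hkill : ∀ r ∈ IsLocalRing.maximalIdeal ((P).presheaf.stalk x), ∀ w : Q.presheaf.stalk x, r • w = 0 :=
    fun r hr w => smul_res_eq_zero hz F 0 hr w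
  have hS : (ShortComplex.mk (kernel.ι g) g (kernel.condition g)).ShortExact :=
    { exact := ShortComplex.exact_of_f_is_kernel _ (kernelIsKernel g) }
  have hQcoh : Coh.IsCoh Q := TensorPerf20.isCoh_tensor (QCoh.pushUnit_isCoh _) hF
  have hQvan : ∀ (t : ℤ) (i : ℕ), 1 ≤ i → Subsingleton (Coh.HH P (Ft Q t) i) := by
    intro t i hi
    have hsub := (CMReg.support_tensorMod_subset (X := P) Q _ (CMReg.isInvertible_twist t)).trans hsupp
    exact Euler.subsingleton_HH_of_finite_support _ ((Set.finite_singleton x).subset hsub)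
      (fun y hy => by rw [hsub hy]; exact hx) i hi
  have hFvan : ∀ (i : ℕ) (r : ℤ), 1 ≤ i → m - i ≤ r → Subsingleton (Coh.HH P (Ft F r) i) :=
    CMReg.propagate hF m hreg
  refine ⟨kernel g, kernel.ι g, inferInstance, ?_, ?_, ?_, ?_⟩
  · exact QCoh.isCoh_kernel g hF hQcoh
  · intro i hi _
    obtain ⟨q, rfl⟩ : ∃ q, i = q + 1 := ⟨i - 1, by omega⟩
    rcases Nat.eq_zero_or_pos q with rfl | hq
    · rw [show m + 1 - ((0 + 1 : ℕ) : ℤ) = m by simp]
      haveI := (CMReg.ft_shortExact hS m).epi_g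
      refine RegCorr27.subsingleton_X₁_one (CMReg.ft_shortExact hS m) ?_ (hFvan 1 m le_rfl (by simp))
      refine surjective_app_top_of_spanned _ (CMReg.spanned_of_regular hF m hreg m le_rfl) hx ?_ ?_ ?_
      · exact (CMReg.support_tensorMod_subset (X := P) Q _ (CMReg.isInvertible_twist m)).trans hsupp
      · intro r
        obtain ⟨c, hc⟩ := exists_sub_cst_mem (k := k) hx r
        exact ⟨_, hc⟩
      · exact fun r hr w => smul_tensor_eq_zero Q _ x (hkill r hr) w
    · exact CMReg.sub_X₁ hS (hQvan _ q hq) (hFvan (q + 1) _ (by omega) (by omega))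
  · intro v
    refine mem_mTop_of_res_eq_zero (z := z) hz hF 0 ?_
    show stalkLin g x (stalkLin (kernel.ι g) x v) = 0
    rw [← QCoh.stalkLin_comp, kernel.condition]
    exact GenHom20.stalkLin_zero _ _
  · intro y hy v
    haveI : Subsingleton (Q.presheaf.stalk y) := QCoh.stalk_subsingleton_of_notMem fun h => hy (hsupp h)
    exact ((ShortComplex.ShortExact.moduleCat_exact_iff_function_exact _).1
      ((OX.exact_iff _).1 hS.exact y) v).1 (Subsingleton.elim (α := Q.presheaf.stalk y) _ _)

/-- A submodule of the structure module with prescribed vanishing at a list of closed points. -/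
theorem exists_ideal (L : List (P)) (hL : ∀ p ∈ L, IsClosed ({p} : Set P)) :
    ∃ (F : (P).Modules) (ι : F ⟶ Coh.structureModule P), Mono ι ∧ Coh.IsCoh F ∧
      Curv2.IsMRegular k n F (L.length : ℤ) ∧
      (∀ (p : P) (e : ℕ), (List.replicate e p).Sublist L → ∀ v : F.presheaf.stalk p, stalkLin ι p v ∈
        (IsLocalRing.maximalIdeal ((P).presheaf.stalk p) ^ e •
          (⊤ : Submodule ((P).presheaf.stalk p) ((Coh.structureModule P).presheaf.stalk p)))) ∧
      ∀ p, p ∉ L → Function.Surjective (stalkLin ι p) := by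
  induction L with
  | nil =>
    refine ⟨Coh.structureModule P, 𝟙 _, inferInstance, HomSh.isCoh_structureModule _, regular_structure,
      fun p e he v => ?_, fun p _ v => ⟨v, QCoh.stalkLin_id _ _ v⟩⟩
    obtain rfl : e = 0 := by simpa using he.length_le
    rw [pow_zero, Ideal.one_eq_top, Submodule.top_smul]
    trivial
  | cons x L ih =>
    obtain ⟨F, ι, hι, hF, hreg, hpow, hsurj⟩ := ih fun p hp => hL p (List.mem_cons_of_mem _ hp)
    obtain ⟨F', κ, hκ, hF', hreg', hx, hoff⟩ := exists_sub hF _ hreg (hL x List.mem_cons_self)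
    refine ⟨F', κ ≫ ι, inferInstance, hF', by simpa using hreg', fun p e he v => ?_, fun p hp => ?_⟩
    · rw [QCoh.stalkLin_comp]
      rcases List.sublist_cons_iff.1 he with h | ⟨r, hr, hrL⟩
      · exact hpow p e h _
      · obtain ⟨e', rfl⟩ : ∃ e', e = e' + 1 := ⟨e - 1, by
          have := congrArg List.length hr; simp at this; omega⟩
        rw [List.replicate_succ, List.cons.injEq] at hr
        obtain ⟨rfl, rfl⟩ := hr
        refine Submodule.smul_induction_on (p := fun w => stalkLin ι p w ∈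
          (IsLocalRing.maximalIdeal ((P).presheaf.stalk p) ^ (e' + 1) •
            (⊤ : Submodule ((P).presheaf.stalk p) ((Coh.structureModule P).presheaf.stalk p)))) (hx v)
          (fun a ha w _ => ?_) (fun a b ha hb => by rw [map_add]; exact add_mem ha hb)
        rw [map_smul, pow_succ', mul_smul]
        exact Submodule.smul_mem_smul ha (hpow p e' hrL w)
    · intro v
      obtain ⟨w, rfl⟩ := hsurj p (fun h => hp (List.mem_cons_of_mem _ h)) v
      obtain ⟨u, rfl⟩ := hoff p (fun h => hp (h ▸ List.mem_cons_self)) w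
      exact ⟨u, QCoh.stalkLin_comp κ ι p u⟩

/-- The ideal of a finite closed subscheme is regular in the sum of the nilpotency orders. -/
theorem regular_idealMod (Z : Scheme.{u}) (i : Z ⟶ P) [IsClosedImmersion i] [Finite Z] (μ : Z → ℕ)
    (hμ : ∀ x : Z, IsLocalRing.maximalIdeal (Z.presheaf.stalk x) ^ (μ x + 1) = ⊥) :
    Curv2.IsMRegular k n (ClSub.idealMod i.ker) ((∑ᶠ x : Z, (μ x : ℤ)) + (Nat.card Z : ℤ)) := by
  classical
  haveI := Fintype.ofFinite Z
  haveI : IsIso i.toImage := inferInstance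
  let L : List (P) := Finset.univ.toList.flatMap fun z : Z => List.replicate (μ z + 1) (i z)
  have hlen : (L.length : ℤ) = (∑ᶠ x : Z, (μ x : ℤ)) + (Nat.card Z : ℤ) := by
    rw [finsum_eq_sum_of_fintype, Nat.card_eq_fintype_card]
    simp [L, List.length_flatMap, Finset.sum_add_distrib]
  haveI : LocallyOfFiniteType (i ≫ CohB1.ProjSpace.toSpec n k) := by
    haveI := Chow.isProper_toSpec n k
    infer_instance
  haveI : JacobsonSpace Z := LocallyOfFiniteType.jacobsonSpace (i ≫ CohB1.ProjSpace.toSpec n k)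
  haveI hfinT : DiscreteTopology Z := inferInstance
  have hcl : ∀ z : Z, IsClosed ({i z} : Set P) := fun z => by
    simpa using i.isClosedEmbedding.isClosedMap _ (isClosed_discrete ({z} : Set Z))
  have hmem : ∀ p, p ∈ L ↔ ∃ z, i z = p := fun p => by simp [L, eq_comm]
  obtain ⟨F, ι, hι, hF, hreg, hpow, hsurj⟩ := exists_ideal (n := n) (k := k) L fun p hp => by
    obtain ⟨z, rfl⟩ := (hmem p).1 hp; exact hcl z
  have hcomp : ι ≫ ClSub.toSubscheme i.ker = 0 := by
    refine HomColim20.hom_ext_stalkLin fun y v => ?_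
    rw [QCoh.stalkLin_comp, GenHom20.stalkLin_zero]
    by_cases hy : y ∈ CohB1.support (ClSub.quotMod i.ker)
    swap
    · exact @Subsingleton.elim _ (QCoh.stalk_subsingleton_of_notMem hy) _ _
    obtain ⟨p, rfl⟩ := QCoh.support_pushforward_subset_range _ _ hy
    obtain ⟨z, rfl⟩ := i.toImage.homeomorph.surjective p
    have hp : i.ker.subschemeι (i.toImage z) = i z := by
      rw [← Scheme.Hom.comp_apply, Scheme.Hom.toImage_imageι]
    refine pow_smul_stalk_quot_eq_zero i.ker (i.toImage z) (μ z + 1) ?_ _ ?_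
    · refine eq_bot_iff.2 fun a ha => ?_
      have hb : (i.toImage.stalkMap z).hom a ∈ IsLocalRing.maximalIdeal (Z.presheaf.stalk z) ^ (μ z + 1) := by
        have h1 := Ideal.mem_map_of_mem (i.toImage.stalkMap z).hom ha
        rw [Ideal.map_pow] at h1
        exact Ideal.pow_right_mono (Ideal.map_le_iff_le_comap.2 fun b hb => map_nonunit _ b hb) _ h1
      rw [hμ z, Submodule.mem_bot] at hb
      exact (ConcreteCategory.bijective_of_isIso (i.toImage.stalkMap z)).1 (hb.trans (map_zero _).symm)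
    · refine hpow _ (μ z + 1) ?_ v
      rw [show i.ker.subschemeι (i.toImage.homeomorph z) = i z from hp]
      have hz : z ∈ (Finset.univ : Finset Z).toList := by simp
      exact List.sublist_flatten_of_mem (List.mem_map_of_mem hz)
  let ψ : F ⟶ ClSub.idealMod i.ker := kernel.lift _ ι hcomp
  have hψ : ψ ≫ ClSub.idealModι i.ker = ι := kernel.lift_ι _ _ _
  haveI : Mono ψ := mono_of_mono_fac hψ
  haveI : Mono (ClSub.idealModι i.ker) := inferInstanceAs (Mono (kernel.ι _))
  have hsupp : CohB1.support (cokernel ψ) ⊆ Set.range i := fun y hy => by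
    by_contra hyr
    refine QCoh.notMem_support_cokernel_of_surjective ψ (fun v => ?_) hy
    obtain ⟨w, hw⟩ := hsurj y (fun h => hyr ((hmem y).1 h)) (stalkLin (ClSub.idealModι i.ker) y v)
    refine ⟨w, QCoh.stalkLin_injective (ClSub.idealModι i.ker) y ?_⟩
    rw [← QCoh.stalkLin_comp, hψ, hw]
  have hS : (ShortComplex.mk ψ (cokernel.π ψ) (cokernel.condition ψ)).ShortExact :=
    { exact := ShortComplex.exact_of_g_is_cokernel _ (cokernelIsCokernel ψ) }
  rw [← hlen]
  intro q hq hqn
  refine CMReg.sub_X₂ hS (hreg q hq hqn) ?_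
  have hsub := (CMReg.support_tensorMod_subset (X := P) (cokernel ψ) _
    (CMReg.isInvertible_twist ((L.length : ℤ) - q))).trans hsupp
  exact Euler.subsingleton_HH_of_finite_support _ ((Set.finite_range i).subset hsub)
    (fun y hy => by obtain ⟨z, rfl⟩ := hsub hy; exact hcl z) q hq

end projective

end GrothLib.PtsReg5
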